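import Mathlib.RingTheory.TensorProduct.Quotient
import Mathlib.LinearAlgebra.TensorProduct.RightExactness
import Mathlib.LinearAlgebra.TensorProduct.Tower
import Mathlib.Algebra.Module.Projective
import Mathlib.LinearAlgebra.FreeModule.Basic
import Mathlib.LinearAlgebra.Projection
import Mathlib.Tactic.Abel

/-! Direct summands of an extension lifting a given one modulo an ideal. -/

set_option autoImplicit false
universe u v
open scoped TensorProduct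

namespace SumTorsorLib

variable {R : Type u} [CommRing R] (𝔫 : Ideal R)
variable {M N : Type v} [AddCommGroup M] [Module R M] [AddCommGroup N] [Module R N]

abbrev red : M →ₗ[R] (R ⧸ 𝔫) ⊗[R] M := TensorProduct.mk R (R ⧸ 𝔫) M 1

lemma red_surjective : Function.Surjective (red 𝔫 (M := M)) :=
  TensorProduct.mk_surjective R M (R ⧸ 𝔫) Ideal.Quotient.mk_surjective

lemma red_eq_zero {x : M} : red 𝔫 x = 0 ↔ x ∈ 𝔫 • (⊤ : Submodule R M) := by
  rw [← (TensorProduct.quotTensorEquivQuotSMul M 𝔫).map_eq_zero_iff, ← Submodule.Quotient.mk_eq_zero]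
  simp [red]

lemma red_map (f : M →ₗ[R] N) (x : M) : f.baseChange (R ⧸ 𝔫) (red 𝔫 x) = red 𝔫 (f x) := LinearMap.baseChange_tmul _ _ _

lemma map_mem_smul_top (f : M →ₗ[R] N) {x : M} (hx : x ∈ 𝔫 • (⊤ : Submodule R M)) : f x ∈ 𝔫 • LinearMap.range f := by
  have := Submodule.mem_map_of_mem (f := f) hx
  rwa [Submodule.map_smul'', Submodule.map_top] at this

lemma mem_baseChange {p : Submodule R M} {x : (R ⧸ 𝔫) ⊗[R] M} :
    x ∈ p.baseChange (R ⧸ 𝔫) ↔ ∃ h ∈ p, red 𝔫 h = x := by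
  constructor
  · intro hx
    rw [Submodule.baseChange_eq_span] at hx
    induction hx using Submodule.span_induction with
    | mem y hy => exact hy
    | zero => exact ⟨0, zero_mem _, map_zero _⟩
    | add a b _ _ ha hb =>
      obtain ⟨h, hh, rfl⟩ := ha
      obtain ⟨h', hh', rfl⟩ := hb
      exact ⟨h + h', add_mem hh hh', map_add _ _ _⟩
    | smul c a _ ha =>
      obtain ⟨h, hh, rfl⟩ := ha
      obtain ⟨r, rfl⟩ := Ideal.Quotient.mk_surjective c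
      refine ⟨r • h, p.smul_mem r hh, ?_⟩
      rw [map_smul]
      exact (algebraMap_smul (R ⧸ 𝔫) r (red 𝔫 h)).symm
  · rintro ⟨h, hh, rfl⟩
    exact Submodule.tmul_mem_baseChange_of_mem _ hh

lemma exists_proj (p : Submodule R M) [Module.Free R (M ⧸ p)] :
    ∃ π : M →ₗ[R] p, ∀ x : p, π x = x := by
  obtain ⟨σ, hσ⟩ := Module.projective_lifting_property p.mkQ LinearMap.id p.mkQ_surjective
  have hmem : ∀ x : M, ((LinearMap.id : M →ₗ[R] M) - σ ∘ₗ p.mkQ) x ∈ p := fun x => by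
    rw [← Submodule.Quotient.mk_eq_zero]
    have := LinearMap.congr_fun hσ (p.mkQ x)
    simp [Submodule.Quotient.mk_sub] at this ⊢
    rw [this, sub_self]
  refine ⟨(LinearMap.id - σ ∘ₗ p.mkQ).codRestrict p hmem, fun x => Subtype.ext ?_⟩
  simp [(Submodule.Quotient.mk_eq_zero p).2 x.2]

variable {H₁ H H₂ : Type v} [AddCommGroup H₁] [Module R H₁] [AddCommGroup H] [Module R H] [AddCommGroup H₂] [Module R H₂]
variable (f : H₁ →ₗ[R] H) (g : H →ₗ[R] H₂) (hf : Function.Injective f) (hg : Function.Surjective g) (hfg : Function.Exact f g)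
variable (F₁ : Submodule R H₁) (F₂ : Submodule R H₂) (Fb : Submodule (R ⧸ 𝔫) ((R ⧸ 𝔫) ⊗[R] H))

/-- The liftings of `Fb`. -/
def IsLift (F : Submodule R H) : Prop :=
  (∃ C : Submodule R H, IsCompl F C) ∧
    F ⊓ LinearMap.range f = Submodule.map f F₁ ∧
    F.baseChange (R ⧸ 𝔫) = Fb ∧ Submodule.map g F = F₂

variable [Module.Free R H₂]
variable [Module.Free R (H₁ ⧸ F₁)] [Module.Free R (H₂ ⧸ F₂)]

include hf hg hfg in
lemma exists_retraction : ∃ ρ : H →ₗ[R] H₁, ∀ a, ρ (f a) = a := by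
  obtain ⟨σ, hσ⟩ := Module.projective_lifting_property g LinearMap.id hg
  have hmem : ∀ h, h - σ (g h) ∈ LinearMap.range f := fun h => (hfg _).1 (by
    have := LinearMap.congr_fun hσ (g h)
    simp at this ⊢
    rw [this, sub_self])
  refine ⟨(LinearEquiv.ofInjective f hf).symm.toLinearMap ∘ₗ ((LinearMap.id - σ ∘ₗ g).codRestrict _ hmem), fun a => hf ?_⟩
  have e : ∀ y : LinearMap.range f, f ((LinearEquiv.ofInjective f hf).symm y) = y := fun y => by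
    conv_rhs => rw [← (LinearEquiv.ofInjective f hf).apply_symm_apply y]
    rfl
  simp [e, hfg.apply_apply_eq_zero]

include hg in
lemma exists_section (F : Submodule R H) (hF : Submodule.map g F = F₂) :
    ∃ s : F₂ →ₗ[R] H, ∀ y, s y ∈ F ∧ g (s y) = y := by
  haveI : Module.Projective R F₂ := by
    obtain ⟨π, hπ⟩ := exists_proj F₂
    exact Module.Projective.of_split F₂.subtype π (LinearMap.ext hπ)
  let gF : F →ₗ[R] F₂ := (g ∘ₗ F.subtype).codRestrict F₂ (fun x => hF ▸ ⟨x, x.2, rfl⟩)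
  have hsurj : Function.Surjective gF := fun y => by
    obtain ⟨x, hx, hxy⟩ : (y : H₂) ∈ Submodule.map g F := hF ▸ y.2
    exact ⟨⟨x, hx⟩, Subtype.ext hxy⟩
  obtain ⟨s, hs⟩ := Module.projective_lifting_property gF LinearMap.id hsurj
  exact ⟨F.subtype ∘ₗ s, fun y => ⟨(s y).2, congrArg Subtype.val (LinearMap.congr_fun hs y)⟩⟩

include hf hg hfg in
lemma exists_compl (F : Submodule R H) (hi : F ⊓ LinearMap.range f = Submodule.map f F₁)
    (hm : Submodule.map g F = F₂) : ∃ C : Submodule R H, IsCompl F C := by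
  obtain ⟨π₁, hπ₁⟩ := exists_proj F₁
  obtain ⟨π₂, hπ₂⟩ := exists_proj F₂
  obtain ⟨ρ, hρ⟩ := exists_retraction f g hf hg hfg
  obtain ⟨s, hs⟩ := exists_section g hg F₂ F hm
  let a := s ∘ₗ π₂ ∘ₗ g
  let b := f ∘ₗ F₁.subtype ∘ₗ π₁ ∘ₗ ρ ∘ₗ (LinearMap.id - a)
  have hmem : ∀ h, (a + b) h ∈ F := fun h => by
    refine add_mem (hs _).1 ?_
    have : f (π₁ (ρ (h - a h))).1 ∈ F ⊓ LinearMap.range f := hi ▸ Submodule.mem_map_of_mem (π₁ _).2
    exact this.1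
  refine ⟨LinearMap.ker ((a + b).codRestrict F hmem), LinearMap.isCompl_of_proj fun x => Subtype.ext ?_⟩
  have hgx : g (x : H) ∈ F₂ := hm ▸ ⟨x, x.2, rfl⟩
  have ha : a x = s ⟨g x, hgx⟩ := congrArg s (hπ₂ ⟨g x, hgx⟩)
  obtain ⟨c, hc, hce⟩ : (x : H) - a x ∈ Submodule.map f F₁ := hi ▸ ⟨sub_mem x.2 (hs _).1, (hfg _).1 (by
    rw [ha, map_sub, (hs _).2]; exact sub_self _)⟩
  show a x + b x = x
  have hb : b x = f c := by
    show f (π₁ (ρ ((x : H) - a x))).1 = f c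
    rw [← hce, hρ, show π₁ c = ⟨c, hc⟩ from hπ₁ ⟨c, hc⟩]
  rw [hb, hce]; abel

include hf hg hfg in
lemma exists_lift
    (h1 : Fb ⊓ LinearMap.range (f.baseChange (R ⧸ 𝔫)) =
      Submodule.map (f.baseChange (R ⧸ 𝔫)) (F₁.baseChange (R ⧸ 𝔫)))
    (h2 : Submodule.map (g.baseChange (R ⧸ 𝔫)) Fb = F₂.baseChange (R ⧸ 𝔫)) :
    ∃ F : Submodule R H, IsLift 𝔫 f g F₁ F₂ Fb F := by
  let P : Submodule R H := (Fb.restrictScalars R).comap (red 𝔫) ⊓ F₂.comap g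
  have hP : Submodule.map g P = F₂ := by
    refine le_antisymm (Submodule.map_le_iff_le_comap.2 inf_le_right) fun y hy => ?_
    obtain ⟨z, hz, hzy⟩ : red 𝔫 y ∈ Submodule.map (g.baseChange (R ⧸ 𝔫)) Fb :=
      h2 ▸ (mem_baseChange 𝔫).2 ⟨y, hy, rfl⟩
    obtain ⟨h, rfl⟩ := red_surjective 𝔫 z
    rw [red_map] at hzy
    have h0 : y - g h ∈ 𝔫 • (⊤ : Submodule R H₂) := (red_eq_zero 𝔫).1 (by rw [map_sub, hzy, sub_self])
    rw [← LinearMap.range_eq_top.2 hg, ← Submodule.map_top, ← Submodule.map_smul''] at h0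
    obtain ⟨k, hk, hkg⟩ := h0
    refine ⟨h + k, ⟨?_, ?_⟩, ?_⟩
    · show red 𝔫 (h + k) ∈ Fb
      rw [map_add, (red_eq_zero 𝔫).2 hk, add_zero]; exact hz
    · show g (h + k) ∈ F₂
      rw [map_add, hkg, add_sub_cancel]; exact hy
    · rw [map_add, hkg, add_sub_cancel]
  obtain ⟨s, hs⟩ := exists_section g hg F₂ P hP
  let F := Submodule.map f F₁ ⊔ LinearMap.range s
  have hm : Submodule.map g F = F₂ := by
    rw [Submodule.map_sup]
    refine le_antisymm (sup_le ?_ ?_) fun y hy => Submodule.mem_sup_right ⟨s ⟨y, hy⟩, ⟨_, rfl⟩, (hs _).2⟩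
    · rintro _ ⟨_, ⟨a, _, rfl⟩, rfl⟩
      rw [hfg.apply_apply_eq_zero]; exact zero_mem _
    · rintro _ ⟨_, ⟨y, rfl⟩, rfl⟩
      rw [(hs y).2]; exact y.2
  have hi : F ⊓ LinearMap.range f = Submodule.map f F₁ := by
    refine le_antisymm ?_ (le_inf le_sup_left LinearMap.map_le_range)
    rintro x ⟨hx, ⟨b, rfl⟩⟩
    obtain ⟨_, ⟨a, ha, rfl⟩, _, ⟨y, rfl⟩, e⟩ := Submodule.mem_sup.1 hx
    have := congrArg g e
    rw [map_add, hfg.apply_apply_eq_zero, hfg.apply_apply_eq_zero, zero_add, (hs y).2] at this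
    rw [show y = 0 from Subtype.ext this, map_zero, add_zero] at e
    exact ⟨a, ha, e⟩
  refine ⟨F, exists_compl f g hf hg hfg F₁ F₂ F hi hm, hi, ?_, hm⟩
  refine le_antisymm ?_ fun z hz => ?_
  · intro z hz
    obtain ⟨h, hh, rfl⟩ := (mem_baseChange 𝔫).1 hz
    obtain ⟨_, ⟨a, ha, rfl⟩, _, ⟨y, rfl⟩, rfl⟩ := Submodule.mem_sup.1 hh
    rw [map_add]
    refine add_mem ?_ (hs y).1.1
    have : red 𝔫 (f a) ∈ Fb ⊓ LinearMap.range (f.baseChange (R ⧸ 𝔫)) :=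
      h1 ▸ ⟨red 𝔫 a, (mem_baseChange 𝔫).2 ⟨a, ha, rfl⟩, red_map 𝔫 f a⟩
    exact this.1
  · obtain ⟨y, hy, hyz⟩ := (mem_baseChange 𝔫).1 (h2 ▸ Submodule.mem_map_of_mem hz : g.baseChange (R ⧸ 𝔫) z ∈ F₂.baseChange (R ⧸ 𝔫))
    have hex : Function.Exact (f.baseChange (R ⧸ 𝔫)) (g.baseChange (R ⧸ 𝔫)) := lTensor_exact (R ⧸ 𝔫) hfg hg
    have hker : z - red 𝔫 (s ⟨y, hy⟩) ∈ Fb ⊓ LinearMap.range (f.baseChange (R ⧸ 𝔫)) :=
      ⟨sub_mem hz (hs _).1.1, (hex _).1 (by rw [map_sub, red_map, (hs _).2, hyz, sub_self])⟩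
    rw [h1] at hker
    obtain ⟨_, hw, hwz⟩ := hker
    obtain ⟨a, ha, rfl⟩ := (mem_baseChange 𝔫).1 hw
    refine (mem_baseChange 𝔫).2 ⟨f a + s ⟨y, hy⟩, add_mem (Submodule.mem_sup_left ⟨a, ha, rfl⟩) (Submodule.mem_sup_right ⟨_, rfl⟩), ?_⟩
    rw [map_add, ← red_map, hwz, sub_add_cancel]

variable {f g F₁ F₂ Fb}

include hf hg hfg in
lemma torsor (h1 : Fb ⊓ LinearMap.range (f.baseChange (R ⧸ 𝔫)) =
      Submodule.map (f.baseChange (R ⧸ 𝔫)) (F₁.baseChange (R ⧸ 𝔫)))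
    (F F' : Submodule R H) (hF : IsLift 𝔫 f g F₁ F₂ Fb F) (hF' : IsLift 𝔫 f g F₁ F₂ Fb F') :
    (∀ u : H₂ →ₗ[R] H₁, (∀ y : H₂, u y ∈ 𝔫 • (⊤ : Submodule R H₁)) →
      IsLift 𝔫 f g F₁ F₂ Fb (Submodule.map (LinearMap.id + f ∘ₗ u ∘ₗ g) F)) ∧
    (∀ u : H₂ →ₗ[R] H₁, (∀ y : H₂, u y ∈ 𝔫 • (⊤ : Submodule R H₁)) →
      (Submodule.map (LinearMap.id + f ∘ₗ u ∘ₗ g) F = F ↔ ∀ y ∈ F₂, u y ∈ 𝔫 • F₁)) ∧
    (∃ u : H₂ →ₗ[R] H₁, (∀ y : H₂, u y ∈ 𝔫 • (⊤ : Submodule R H₁)) ∧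
      F' = Submodule.map (LinearMap.id + f ∘ₗ u ∘ₗ g) F) := by
  obtain ⟨-, hi, hb, hm⟩ := hF
  obtain ⟨-, hi', hb', hm'⟩ := hF'
  have hfF : ∀ a ∈ F₁, f a ∈ F := fun a ha => (hi.ge (Submodule.mem_map_of_mem ha)).1
  have hfF' : ∀ a ∈ F₁, f a ∈ F' := fun a ha => (hi'.ge (Submodule.mem_map_of_mem ha)).1
  obtain ⟨π₁, hπ₁⟩ := exists_proj F₁
  obtain ⟨π₂, hπ₂⟩ := exists_proj F₂
  have hπn : ∀ a ∈ 𝔫 • (⊤ : Submodule R H₁), (π₁ a : H₁) ∈ 𝔫 • F₁ := fun a ha =>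
    Submodule.smul_mono le_rfl (by rintro _ ⟨x, rfl⟩; exact (π₁ x).2) (map_mem_smul_top 𝔫 (F₁.subtype ∘ₗ π₁) ha)
  refine ⟨fun u hu => ?_, fun u hu => ?_, ?_⟩
  · let φ := LinearMap.id + f ∘ₗ u ∘ₗ g
    have hφ : ∀ x, φ x = x + f (u (g x)) := fun x => rfl
    have hgφ : ∀ x, g (φ x) = g x := fun x => by rw [hφ, map_add, hfg.apply_apply_eq_zero, add_zero]
    have hm2 : Submodule.map g (Submodule.map φ F) = F₂ := by
      rw [← Submodule.map_comp, show g ∘ₗ φ = g from LinearMap.ext hgφ, hm]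
    have hi2 : Submodule.map φ F ⊓ LinearMap.range f = Submodule.map f F₁ := by
      refine le_antisymm ?_ ?_
      · rintro _ ⟨⟨x, hx, rfl⟩, ⟨b, hb2⟩⟩
        have h0 : g x = 0 := by rw [← hgφ, ← hb2, hfg.apply_apply_eq_zero]
        have he : φ x = x := by rw [hφ, h0, map_zero, map_zero, add_zero]
        rw [he]
        exact hi.le ⟨hx, (hfg _).1 h0⟩
      · rintro _ ⟨a, ha, rfl⟩
        exact ⟨⟨f a, hfF a ha, by rw [hφ, hfg.apply_apply_eq_zero, map_zero, map_zero, add_zero]⟩, ⟨a, rfl⟩⟩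
    have hred : ∀ x, red 𝔫 (φ x) = red 𝔫 x := fun x => by
      rw [hφ, map_add, ← red_map, (red_eq_zero 𝔫).2 (hu _), map_zero, add_zero]
    refine ⟨exists_compl f g hf hg hfg F₁ F₂ _ hi2 hm2, hi2, ?_, hm2⟩
    rw [← hb]
    ext z
    rw [mem_baseChange, mem_baseChange]
    constructor
    · rintro ⟨_, ⟨x, hx, rfl⟩, rfl⟩; exact ⟨x, hx, (hred x).symm⟩
    · rintro ⟨x, hx, rfl⟩; exact ⟨φ x, ⟨x, hx, rfl⟩, hred x⟩
  · constructor
    · intro h y hy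
      obtain ⟨x, hx, rfl⟩ : y ∈ Submodule.map g F := hm.symm ▸ hy
      have h3 : f (u (g x)) ∈ F := by
        have : x + f (u (g x)) ∈ F := h ▸ ⟨x, hx, rfl⟩
        exact (Submodule.add_mem_iff_right _ hx).1 this
      obtain ⟨a, ha, hae⟩ := hi.le ⟨h3, ⟨_, rfl⟩⟩
      have hmem : u (g x) ∈ F₁ := hf hae ▸ ha
      have := hπn _ (hu (g x))
      rwa [show π₁ (u (g x)) = ⟨u (g x), hmem⟩ from hπ₁ ⟨_, hmem⟩] at this
    · intro h
      have hFle : ∀ x ∈ F, f (u (g x)) ∈ F := fun x hx =>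
        hfF _ (Submodule.smul_le_right (h _ (hm.le ⟨x, hx, rfl⟩)))
      refine le_antisymm ?_ fun x hx => ?_
      · rintro _ ⟨x, hx, rfl⟩
        exact add_mem hx (hFle x hx)
      · refine ⟨x - f (u (g x)), sub_mem hx (hFle x hx), ?_⟩
        simp [hfg.apply_apply_eq_zero]
  · obtain ⟨ρ, hρ⟩ := exists_retraction f g hf hg hfg
    obtain ⟨s, hs⟩ := exists_section g hg F₂ F hm
    obtain ⟨s', hs'⟩ := exists_section g hg F₂ F' hm'
    let d : F₂ →ₗ[R] H₁ := ρ ∘ₗ (s' - s)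
    have hd : ∀ y, f (d y) = s' y - s y := fun y => by
      obtain ⟨c, hc⟩ := (hfg (s' y - s y)).1 (by rw [map_sub, (hs y).2, (hs' y).2, sub_self])
      show f (ρ (s' y - s y)) = _
      rw [← hc, hρ]
    let u : H₂ →ₗ[R] H₁ := (LinearMap.id - F₁.subtype ∘ₗ π₁) ∘ₗ d ∘ₗ π₂
    have hu : ∀ y, u y ∈ 𝔫 • (⊤ : Submodule R H₁) := fun y => by
      let w := π₂ y
      have hz : red 𝔫 (f (d w)) ∈ Fb ⊓ LinearMap.range (f.baseChange (R ⧸ 𝔫)) :=
        ⟨by rw [hd, map_sub]; exact sub_mem (hb'.le ((mem_baseChange 𝔫).2 ⟨_, (hs' w).1, rfl⟩)) (hb.le ((mem_baseChange 𝔫).2 ⟨_, (hs w).1, rfl⟩)), ⟨red 𝔫 (d w), red_map 𝔫 f _⟩⟩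
      rw [h1] at hz
      obtain ⟨_, hzm, hze⟩ := hz
      obtain ⟨a, ha, rfl⟩ := (mem_baseChange 𝔫).1 hzm
      have h0 : d w - a ∈ 𝔫 • (⊤ : Submodule R H₁) := by
        have := congrArg (ρ.baseChange (R ⧸ 𝔫)) hze
        rw [red_map, red_map, red_map, hρ, hρ] at this
        exact (red_eq_zero 𝔫).1 (by rw [map_sub, this, sub_self])
      have hp : (π₁ a : H₁) = a := congrArg Subtype.val (hπ₁ ⟨a, ha⟩)
      have : u y = (d w - a) - (π₁ (d w - a) : H₁) := by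
        show d w - (π₁ (d w) : H₁) = _
        rw [map_sub, Submodule.coe_sub, hp]; abel
      rw [this]
      exact sub_mem h0 (Submodule.smul_mono le_rfl le_top (hπn _ h0))
    refine ⟨u, hu, le_antisymm (fun x hx => ?_) ?_⟩
    · have hy : g x ∈ F₂ := hm'.le ⟨x, hx, rfl⟩
      obtain ⟨c, hc, hce⟩ := hi'.le ⟨sub_mem hx (hs' ⟨g x, hy⟩).1, (hfg _).1 (by rw [map_sub, (hs' _).2]; exact sub_self _)⟩
      refine ⟨f c + f (π₁ (d ⟨g x, hy⟩) : H₁) + s ⟨g x, hy⟩, add_mem (add_mem (hfF _ hc) (hfF _ (π₁ _).2)) (hs _).1, ?_⟩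
      have hpy : π₂ (g x) = ⟨g x, hy⟩ := hπ₂ ⟨g x, hy⟩
      have hgt : g (f c + f (π₁ (d ⟨g x, hy⟩) : H₁) + s ⟨g x, hy⟩) = g x := by
        rw [map_add, map_add, hfg.apply_apply_eq_zero, hfg.apply_apply_eq_zero, zero_add, zero_add, (hs _).2]
      show f c + f (π₁ (d ⟨g x, hy⟩) : H₁) + s ⟨g x, hy⟩ + f (u (g (f c + f (π₁ (d ⟨g x, hy⟩) : H₁) + s ⟨g x, hy⟩))) = x
      rw [hgt, hce]
      simp only [u, LinearMap.comp_apply, LinearMap.sub_apply, LinearMap.id_apply, hpy, Submodule.subtype_apply, map_sub, hd]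
      abel
    · rintro _ ⟨x, hx, rfl⟩
      have hy : g x ∈ F₂ := hm.le ⟨x, hx, rfl⟩
      obtain ⟨c, hc, hce⟩ := hi.le ⟨sub_mem hx (hs ⟨g x, hy⟩).1, (hfg _).1 (by rw [map_sub, (hs _).2]; exact sub_self _)⟩
      have hpy : π₂ (g x) = ⟨g x, hy⟩ := hπ₂ ⟨g x, hy⟩
      have e : (LinearMap.id + f ∘ₗ u ∘ₗ g : H →ₗ[R] H) x = f c + s' ⟨g x, hy⟩ - f (π₁ (d ⟨g x, hy⟩) : H₁) := by
        simp only [LinearMap.add_apply, LinearMap.id_apply, LinearMap.comp_apply, u, LinearMap.sub_apply, hpy, Submodule.subtype_apply, map_sub, hd, hce]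
        abel
      rw [e]
      exact sub_mem (add_mem (hfF' _ hc) (hs' _).1) (hfF' _ (π₁ _).2)

end SumTorsorLib
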